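import Mathlib

/-!
# Morphisms to a one-point scheme are universally open
-/

namespace Groth.Agent.Lib.Helper6.UOpen.Point

open CategoryTheory Limits AlgebraicGeometry MorphismProperty

universe u

/-- Universal openness descends along surjective closed immersions (e.g. nilpotent thickenings). -/
theorem universallyOpen_of_pullback_fst {S' S Y : Scheme.{u}} (i : S' ⟶ S) (g : Y ⟶ S)
    [Surjective i] [IsClosedImmersion i] (h : UniversallyOpen (pullback.fst i g)) :
    UniversallyOpen g := by
  refine ⟨universally_mk' _ _ fun {T} f _ s hs ↦ ?_⟩
  let p := pullback.fst (pullback.fst i f) (pullback.fst i g)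
  let r : pullback (pullback.fst i f) (pullback.fst i g) ⟶ pullback f g :=
    pullback.map _ _ _ _ (pullback.snd _ _) (pullback.snd _ _) i (pullback.condition ..)
      (pullback.condition ..)
  have : IsOpen ((pullback.snd i f).base ⁻¹' ((pullback.fst f g).base '' s)) := by
    rw [← Scheme.image_preimage_eq_of_isPullback (isPullback_map_snd_snd ..)]
    exact p.isOpenMap _ (hs.preimage r.continuous)
  have hq : Topology.IsQuotientMap (pullback.snd i f).base :=
    (pullback.snd i f).isClosedMap.isQuotientMap (pullback.snd i f).continuous
      (pullback.snd i f).surjective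
  rwa [hq.isOpen_preimage] at this

/-- Any morphism to a scheme with at most one point is universally open. -/
theorem universallyOpen_of_subsingleton {X Y : Scheme.{u}} (f : X ⟶ Y) [Subsingleton Y] :
    UniversallyOpen f := by
  rcases isEmpty_or_nonempty Y with hY | ⟨⟨y⟩⟩
  · have : IsEmpty X := Function.isEmpty f
    refine ⟨universally_mk' _ _ fun {T} g _ s hs ↦ ?_⟩
    have : IsEmpty ↥(pullback g f) := Function.isEmpty (pullback.snd g f)
    rw [Set.eq_empty_of_isEmpty s, Set.image_empty]
    exact isOpen_empty
  · let i := Y.fromSpecResidueField y
    have hr : Set.range i = Set.univ := by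
      rw [Scheme.range_fromSpecResidueField]
      exact Set.eq_univ_of_forall fun z => Subsingleton.elim _ _
    have : IsClosedImmersion i := .of_isPreimmersion _ (by rw [hr]; exact isClosed_univ)
    have : Surjective i := ⟨by rw [← Set.range_eq_univ]; exact hr⟩
    exact universallyOpen_of_pullback_fst i f inferInstance

end Groth.Agent.Lib.Helper6.UOpen.Point
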